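import Mathlib
import Groth.Prelude.Def_CohB1
import Groth.Agent.Lib.Helper7.GenStage.Main
import Groth.Agent.Lib.Helper7.ConsPair.Basic
import Groth.Agent.Lib.Helper7.RelFGSub
import Groth.Agent.Lib.Helper4.LimHomG

set_option linter.style.haveILetI false
set_option linter.unusedVariables false
set_option linter.unusedSectionVars false
set_option autoImplicit false
set_option backward.isDefEq.respectTransparency.types false
set_option backward.isDefEq.respectTransparency false
set_option synthInstance.maxHeartbeats 400000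
set_option maxHeartbeats 1600000

universe u

/-! helper7: an isomorphism between the pullbacks of two finitely presented modules to the base change of an algebraic scheme over a field to an extension field is already defined over a finite extension (spreading out over finitely generated subalgebras and specialising at a closed point) -/

open CategoryTheory CategoryTheory.Limits AlgebraicGeometry Opposite

namespace Groth.Agent.Helper7.ModFinExt

open Groth.Agent.Helper7.LimBC Groth.Agent.Helper7.ConsMod Groth.Agent.Helper7.GenStage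
  Groth.Agent.Helper7.ConsPair Groth.Agent.Helper7

/-- spreading out: an isomorphism between the pullbacks of two finitely presented modules to the
base change to an algebra comes from an isomorphism over a finitely generated subalgebra. -/
theorem exists_spread_iso (R : Type u) [CommRing R] {X : Scheme.{u}}
    (u : X ⟶ Spec (CommRingCat.of R)) [QuasiCompact u] [QuasiSeparated u]
    (F G : X.Modules) [F.IsQuasicoherent] [G.IsQuasicoherent] (hF : CohB1.IsFP F)
    (hG : CohB1.IsFP G) (K : Type u) [CommRing K] [Algebra R K]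
    {X' : Scheme.{u}} {eX : X' ⟶ X} {gX' : X' ⟶ Spec (CommRingCat.of K)}
    (hX : IsPullback eX gX' u (Spec.map (CommRingCat.ofHom (algebraMap R K))))
    (e : (Scheme.Modules.pullback eX).obj F ≅ (Scheme.Modules.pullback eX).obj G) :
    ∃ (S' : Scheme.{u}) (π : S' ⟶ Spec (CommRingCat.of R)) (_ : LocallyOfFiniteType π)
      (_ : QuasiCompact π) (X₁ : Scheme.{u}) (u₁ : X₁ ⟶ S') (pX : X₁ ⟶ X),
      IsPullback pX u₁ u π ∧
        Nonempty ((Scheme.Modules.pullback pX).obj F ≅ (Scheme.Modules.pullback pX).obj G) ∧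
        Set.range (Spec.map (CommRingCat.ofHom (algebraMap R K))) ⊆ Set.range π := by
  let i₀ : (RelFGSub.Idx R K)ᵒᵖ := op ⟨⊥, Subalgebra.fg_bot⟩
  have hπ : (RelFGSub.specCone R K).π.app i₀ ≫ RelFGSub.toBase R K i₀ =
      Spec.map (CommRingCat.ofHom (algebraMap R K)) := RelFGSub.π_toBase R K i₀
  obtain ⟨qX, hqX, hX₀a⟩ := exists_isPullback_of_fac
    (IsPullback.of_hasPullback u (RelFGSub.toBase R K i₀)) ((RelFGSub.specCone R K).π.app i₀)
    (Spec.map (CommRingCat.ofHom (algebraMap R K))) hπ hX
  have hX₀ : IsPullback qX (show X' ⟶ (RelFGSub.specCone R K).pt from gX')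
      (pullback.snd u (RelFGSub.toBase R K i₀)) ((RelFGSub.specCone R K).π.app i₀) := hX₀a
  haveI hcs : CompactSpace ↥((RelFGSub.specDiag R K).obj i₀) := by
    show CompactSpace ↥(Spec _)
    infer_instance
  haveI hqs : QuasiSeparatedSpace ↥((RelFGSub.specDiag R K).obj i₀) := by
    show QuasiSeparatedSpace ↥(Spec _)
    infer_instance
  haveI : QuasiCompact (pullback.snd u (RelFGSub.toBase R K i₀)) :=
    MorphismProperty.pullback_snd _ _ inferInstance
  haveI : QuasiSeparated (pullback.snd u (RelFGSub.toBase R K i₀)) :=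
    MorphismProperty.pullback_snd _ _ inferInstance
  haveI : CompactSpace ↥(pullback u (RelFGSub.toBase R K i₀)) :=
    QuasiCompact.compactSpace_of_compactSpace (pullback.snd u (RelFGSub.toBase R K i₀))
  haveI : QuasiSeparatedSpace ↥(pullback u (RelFGSub.toBase R K i₀)) :=
    quasiSeparatedSpace_of_quasiSeparated (pullback.snd u (RelFGSub.toBase R K i₀))
  haveI hDaff : ∀ (j k : Over i₀) (v : j ⟶ k), IsAffineHom ((bcDiagram (RelFGSub.specDiag R K) i₀
      (pullback.snd u (RelFGSub.toBase R K i₀))).map v) := fun _ _ v => inferInstance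
  -- the modules at the initial stage
  have hw : bcπ hX₀ (Over.mk (𝟙 i₀)) ≫ (bcFst (RelFGSub.specDiag R K) i₀
      (pullback.snd u (RelFGSub.toBase R K i₀)) (Over.mk (𝟙 i₀)) ≫
        pullback.fst u (RelFGSub.toBase R K i₀)) = eX := by
    rw [bcπ_bcFst_assoc, hqX]
  haveI : ((Scheme.Modules.pullback (bcFst (RelFGSub.specDiag R K) i₀
      (pullback.snd u (RelFGSub.toBase R K i₀)) (Over.mk (𝟙 i₀)) ≫
        pullback.fst u (RelFGSub.toBase R K i₀))).obj F).IsQuasicoherent :=
    Groth.Agent.Lead.PB.isQuasicoherent_pullback _ _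
  haveI : ((Scheme.Modules.pullback (bcFst (RelFGSub.specDiag R K) i₀
      (pullback.snd u (RelFGSub.toBase R K i₀)) (Over.mk (𝟙 i₀)) ≫
        pullback.fst u (RelFGSub.toBase R K i₀))).obj G).IsQuasicoherent :=
    Groth.Agent.Lead.PB.isQuasicoherent_pullback _ _
  have hF₀ : CohB1.IsFP ((Scheme.Modules.pullback (bcFst (RelFGSub.specDiag R K) i₀
      (pullback.snd u (RelFGSub.toBase R K i₀)) (Over.mk (𝟙 i₀)) ≫
        pullback.fst u (RelFGSub.toBase R K i₀))).obj F) :=
    Groth.Agent.Lead.LimZ.isFP_pullback _ F hF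
  have hG₀ : CohB1.IsFP ((Scheme.Modules.pullback (bcFst (RelFGSub.specDiag R K) i₀
      (pullback.snd u (RelFGSub.toBase R K i₀)) (Over.mk (𝟙 i₀)) ≫
        pullback.fst u (RelFGSub.toBase R K i₀))).obj G) :=
    Groth.Agent.Lead.LimZ.isFP_pullback _ G hG
  obtain ⟨j, φ, ⟨θ⟩⟩ := (Groth.Agent.Lib.Helper4.LimHomG.S4790_main
    (bcDiagram (RelFGSub.specDiag R K) i₀ (pullback.snd u (RelFGSub.toBase R K i₀)))
    (bcCone hX₀) (isLimitBcCone (RelFGSub.isLimit_specCone R K).some hX₀) (Over.mk (𝟙 i₀))
    _ _ hF₀ hG₀).1 ⟨(pullbackFacIso hw F).symm ≪≫ e ≪≫ pullbackFacIso hw G⟩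
  have hw' : (bcDiagram (RelFGSub.specDiag R K) i₀
      (pullback.snd u (RelFGSub.toBase R K i₀))).map φ ≫ (bcFst (RelFGSub.specDiag R K) i₀
      (pullback.snd u (RelFGSub.toBase R K i₀)) (Over.mk (𝟙 i₀)) ≫
        pullback.fst u (RelFGSub.toBase R K i₀)) =
      bcFst (RelFGSub.specDiag R K) i₀ (pullback.snd u (RelFGSub.toBase R K i₀)) j ≫
        pullback.fst u (RelFGSub.toBase R K i₀) := by
    rw [bcDiagram_map_bcFst_assoc]
  have hqc : QuasiCompact (RelFGSub.toBase R K j.left) := by
    show QuasiCompact (Spec.map _)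
    infer_instance
  refine ⟨(RelFGSub.specDiag R K).obj j.left, RelFGSub.toBase R K j.left, inferInstance, hqc,
    (bcDiagram (RelFGSub.specDiag R K) i₀ (pullback.snd u (RelFGSub.toBase R K i₀))).obj j,
    pullback.snd (pullback.snd u (RelFGSub.toBase R K i₀)) ((RelFGSub.specDiag R K).map j.hom),
    bcFst (RelFGSub.specDiag R K) i₀ (pullback.snd u (RelFGSub.toBase R K i₀)) j ≫
        pullback.fst u (RelFGSub.toBase R K i₀), ?_,
    ⟨pullbackFacIso hw' F ≪≫ θ ≪≫ (pullbackFacIso hw' G).symm⟩, ?_⟩
  · have h1 := (IsPullback.of_hasPullback (pullback.snd u (RelFGSub.toBase R K i₀))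
      ((RelFGSub.specDiag R K).map j.hom)).paste_horiz
      (IsPullback.of_hasPullback u (RelFGSub.toBase R K i₀))
    rw [RelFGSub.map_toBase] at h1
    exact h1
  · rintro _ ⟨x, rfl⟩
    refine ⟨(RelFGSub.specCone R K).π.app j.left x, ?_⟩
    rw [← Scheme.Hom.comp_apply, RelFGSub.π_toBase]
    rfl

set_option backward.isDefEq.respectTransparency false in
/-- two finitely presented modules on an algebraic scheme over a field whose pullbacks to the base
change to some extension field are isomorphic have isomorphic pullbacks to the base change to a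
finite extension. -/
theorem main {k : Type u} [Field k] {X : Scheme.{u}}
    (p : X ⟶ Spec (CommRingCat.of k)) [LocallyOfFiniteType p] [QuasiCompact p]
    (F G : X.Modules) [F.IsQuasicoherent] [G.IsQuasicoherent] (hF : CohB1.IsFP F)
    (hG : CohB1.IsFP G) (Ω : Type u) [Field Ω] [Algebra k Ω]
    (e : (Scheme.Modules.pullback
        (pullback.fst p (Spec.map (CommRingCat.ofHom (algebraMap k Ω))))).obj F ≅
      (Scheme.Modules.pullback
        (pullback.fst p (Spec.map (CommRingCat.ofHom (algebraMap k Ω))))).obj G) :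
    ∃ (k' : Type u) (_ : Field k') (_ : Algebra k k') (_ : Module.Finite k k'),
      Nonempty ((Scheme.Modules.pullback
          (pullback.fst p (Spec.map (CommRingCat.ofHom (algebraMap k k'))))).obj F ≅
        (Scheme.Modules.pullback
          (pullback.fst p (Spec.map (CommRingCat.ofHom (algebraMap k k'))))).obj G) := by
  have : IsLocallyNoetherian X := LocallyOfFiniteType.isLocallyNoetherian p
  obtain ⟨S', π, hπlft, hπqc, X₁, u₁, pX, hpX, ⟨e₁⟩, hrange⟩ :=
    exists_spread_iso k p F G hF hG Ω (IsPullback.of_hasPullback p _) e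
  have hne : (Set.univ : Set ↥S').Nonempty := by
    obtain ⟨x⟩ : Nonempty ↥(Spec (CommRingCat.of Ω)) := inferInstance
    obtain ⟨s, -⟩ := hrange ⟨x, rfl⟩
    exact ⟨s, trivial⟩
  have : JacobsonSpace ↥S' := LocallyOfFiniteType.jacobsonSpace π
  obtain ⟨s', -, hs'⟩ := nonempty_inter_closedPoints hne isOpen_univ.isLocallyClosed
  have hs'c : IsClosed ({s'} : Set ↥S') := hs'
  have hci := isClosed_singleton_iff_isClosedImmersion.mp hs'c
  have hfin : IsFinite (S'.fromSpecResidueField s' ≫ π) :=
    (isFinite_iff_locallyOfFiniteType_of_jacobsonSpace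
      (f := S'.fromSpecResidueField s' ≫ π)).mpr inferInstance
  let ψ : CommRingCat.of k ⟶ S'.residueField s' :=
    Spec.preimage (S'.fromSpecResidueField s' ≫ π)
  have hψ : Spec.map ψ = S'.fromSpecResidueField s' ≫ π := Spec.map_preimage _
  letI : Algebra k ↑(S'.residueField s') := ψ.hom.toAlgebra
  have hfin' : Module.Finite k ↑(S'.residueField s') := by
    have h1 : IsFinite (Spec.map ψ) := by rw [hψ]; exact hfin
    exact (IsFinite.SpecMap_iff ψ).mp h1
  have hτ : S'.fromSpecResidueField s' ≫ π =
      Spec.map (CommRingCat.ofHom (algebraMap k ↑(S'.residueField s'))) := hψ.symm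
  obtain ⟨rX, hrX1, hrX⟩ := exists_isPullback_of_fac hpX (S'.fromSpecResidueField s') _ hτ
    (IsPullback.of_hasPullback p
      (Spec.map (CommRingCat.ofHom (algebraMap k ↑(S'.residueField s')))))
  exact ⟨↑(S'.residueField s'), inferInstance, inferInstance, hfin',
    ⟨pullbackFacIso hrX1 F ≪≫ (Scheme.Modules.pullback rX).mapIso e₁ ≪≫
      (pullbackFacIso hrX1 G).symm⟩⟩

end Groth.Agent.Helper7.ModFinExt
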